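import Groth.Agent.H22.AwayGlue.Approx
import Mathlib

/-!
The map `A[1/t] → Â[1/t]`.
-/

set_option autoImplicit false
set_option maxHeartbeats 1000000
universe u

open TensorProduct

namespace Groth.Agent.H22.AwayGlue

open Groth.Agent.H22.Horrocks (Eqv Pres)

variable (A : Type u) [CommRing A] (t : A)


theorem jacobson_completion : algebraMap A (AdicCompletion (Ideal.span {t}) A) t ∈ (⊥ : Ideal (AdicCompletion (Ideal.span {t}) A)).jacobson := by
  haveI h : IsAdicComplete (Ideal.span {t}) (AdicCompletion (Ideal.span {t}) A) := AdicCompletion.isAdicComplete (Submodule.fg_span_singleton t)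
  haveI : IsAdicComplete ((Ideal.span {t}).map (algebraMap A (AdicCompletion (Ideal.span {t}) A))) (AdicCompletion (Ideal.span {t}) A) := (IsAdicComplete.map_algebraMap_iff _ _).2 h
  exact IsAdicComplete.le_jacobson_bot ((Ideal.span {t}).map (algebraMap A (AdicCompletion (Ideal.span {t}) A)))
    (Ideal.mem_map_of_mem _ (Ideal.mem_span_singleton_self t))

variable [Algebra (Localization.Away t) (Localization.Away (algebraMap A (AdicCompletion (Ideal.span {t}) A) t))]

theorem dense_adic (halg : algebraMap (Localization.Away t) (Localization.Away (algebraMap A (AdicCompletion (Ideal.span {t}) A) t)) =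
    Localization.awayMap (algebraMap A (AdicCompletion (Ideal.span {t}) A)) t) :
    Dense (algebraMap A (AdicCompletion (Ideal.span {t}) A)) t (algebraMap (Localization.Away t) (Localization.Away (algebraMap A (AdicCompletion (Ideal.span {t}) A) t))) where
  approx b N := by
    obtain ⟨a, ha⟩ := Submodule.mkQ_surjective _ (AdicCompletion.eval (Ideal.span {t}) A N b)
    have h : b - algebraMap A (AdicCompletion (Ideal.span {t}) A) a ∈ ((Ideal.span {t}) ^ N • ⊤ : Submodule A (AdicCompletion (Ideal.span {t}) A)) := by
      rw [AdicCompletion.pow_smul_top_eq_ker_eval (Submodule.fg_span_singleton t), LinearMap.mem_ker, map_sub,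
        sub_eq_zero, AdicCompletion.algebraMap_apply, ← ha]
      rfl
    rw [Ideal.span_singleton_pow, Submodule.ideal_span_singleton_smul,
      Submodule.mem_smul_pointwise_iff_exists] at h
    obtain ⟨c, -, hc⟩ := h
    exact ⟨a, c, by rw [← map_pow, ← Algebra.smul_def, hc]; abel⟩
  div a N c h := by
    have h' := congrArg (AdicCompletion.evalₐ (Ideal.span {t}) N) h
    rw [map_mul, ← map_pow, AlgHom.commutes, AlgHom.commutes, Ideal.Quotient.algebraMap_eq,
      Ideal.Quotient.eq_zero_iff_mem.2 (show t ^ N ∈ (Ideal.span {t}) ^ N from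
        Ideal.pow_mem_pow (Ideal.mem_span_singleton_self t) N), zero_mul, Ideal.Quotient.eq_zero_iff_mem,
      Ideal.span_singleton_pow, Ideal.mem_span_singleton] at h'
    exact h'
  comm a := by
    rw [halg, Localization.awayMap, IsLocalization.Away.map, IsLocalization.map_eq]

end Groth.Agent.H22.AwayGlue
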