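import Groth.Agent.H22.AwayGlue.Small
import Mathlib

/-!
`A[1/t] → Â[1/t]`: approximation and descent of idempotent matrices.
-/

set_option autoImplicit false
set_option maxHeartbeats 1000000
universe u

namespace Groth.Agent.H22.AwayGlue

open Groth.Agent.H22.Horrocks (Eqv)

variable {A B Ra Rb : Type u} [CommRing A] [CommRing B] [CommRing Ra] [CommRing Rb] [Algebra A Ra] [Algebra B Rb]

/-- A ring map which is an isomorphism modulo all powers of `t`, and its localisation. -/
structure Dense (ι : A →+* B) (t : A) (φ : Ra →+* Rb) : Prop where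
  approx : ∀ (b : B) (N : ℕ), ∃ (a : A) (c : B), b = ι a + ι t ^ N * c
  div : ∀ (a : A) (N : ℕ) (c : B), ι a = ι t ^ N * c → ∃ a', a = t ^ N * a'
  comm : ∀ a, φ (algebraMap A Ra a) = algebraMap B Rb (ι a)

variable {ι : A →+* B} {t : A} {φ : Ra →+* Rb} [IsLocalization.Away t Ra] [IsLocalization.Away (ι t) Rb]
variable {m n : ℕ}

omit [IsLocalization.Away t Ra] [IsLocalization.Away (ι t) Rb] in
theorem Dense.sm_map (D : Dense ι t φ) {N : ℕ} {X : Matrix (Fin m) (Fin n) Ra} (h : Sm Ra t N X) :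
    Sm Rb (ι t) N (X.map φ) := fun i j => by
  obtain ⟨a, ha⟩ := h i j
  exact ⟨ι a, by rw [Matrix.map_apply, ha, D.comm, map_mul, map_pow]⟩

theorem Dense.exists_approx (D : Dense ι t φ) (N : ℕ) (Y : Matrix (Fin m) (Fin n) Rb) :
    ∃ X : Matrix (Fin m) (Fin n) Ra, Sm Rb (ι t) N (X.map φ - Y) := by
  have key : ∀ y : Rb, ∃ x : Ra, ∃ c : B, φ x - y = algebraMap B Rb (ι t ^ N * c) := fun y => by
    obtain ⟨⟨b, _, k, rfl⟩, hb⟩ := IsLocalization.surj (Submonoid.powers (ι t)) y
    obtain ⟨a, c, hac⟩ := D.approx b (N + k)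
    obtain ⟨u, hu⟩ := (IsLocalization.Away.algebraMap_isUnit t : IsUnit (algebraMap A Ra t)).pow k
    refine ⟨algebraMap A Ra a * ↑u⁻¹, -c, ?_⟩
    have hk : IsUnit (algebraMap B Rb (ι t ^ k)) := IsLocalization.map_units Rb (⟨_, k, rfl⟩ : Submonoid.powers (ι t))
    refine hk.mul_right_cancel ?_
    have h1 : φ (↑u⁻¹ : Ra) * algebraMap B Rb (ι t ^ k) = 1 := by
      rw [← map_pow, ← D.comm, map_pow (algebraMap A Ra), ← hu, ← map_mul, Units.inv_mul, map_one]
    have h2 : y * algebraMap B Rb (ι t ^ k) = algebraMap B Rb b := hb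
    rw [sub_mul, h2, map_mul, D.comm, mul_assoc, h1, mul_one, hac, ← map_mul, ← map_sub]
    congr 1
    rw [pow_add]; ring
  choose X c hc using fun i j => key (Y i j)
  exact ⟨Matrix.of X, fun i j => ⟨c i j, hc i j⟩⟩

theorem Dense.sm_of_map (D : Dense ι t φ) {N : ℕ} {X : Matrix (Fin m) (Fin n) Ra}
    (h : Sm Rb (ι t) N (X.map φ)) : Sm Ra t N X := fun i j => by
  obtain ⟨c, hc⟩ := h i j
  obtain ⟨⟨a, _, k, rfl⟩, ha⟩ := IsLocalization.surj (Submonoid.powers t) (X i j)
  have h1 : algebraMap B Rb (ι a) = algebraMap B Rb (ι t ^ (N + k) * c) := by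
    rw [← D.comm, ← ha, map_mul, D.comm]
    simp only [Matrix.map_apply] at hc
    rw [hc, ← map_mul, map_pow, pow_add]
    congr 1
    ring
  obtain ⟨⟨_, l, rfl⟩, hl⟩ := IsLocalization.exists_of_eq (M := Submonoid.powers (ι t)) h1
  simp only at hl
  obtain ⟨a', ha'⟩ := D.div (t ^ l * a) (l + (N + k)) c (by
    rw [map_mul, map_pow, hl, ← mul_assoc, ← pow_add])
  refine ⟨a', ?_⟩
  have hu : IsUnit (algebraMap A Ra (t ^ (l + k))) :=
    IsLocalization.map_units Ra (⟨_, l + k, rfl⟩ : Submonoid.powers t)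
  refine hu.mul_right_cancel ?_
  have h2 : X i j * algebraMap A Ra (t ^ k) = algebraMap A Ra a := ha
  rw [pow_add, map_mul, mul_comm (algebraMap A Ra (t ^ l)), ← mul_assoc, h2, ← map_mul, mul_comm a, ha',
    ← map_mul, ← map_mul]
  congr 1
  simp only [pow_add]
  ring

theorem Dense.eqv_of_map (D : Dense ι t φ) (ht : t ∈ (⊥ : Ideal A).jacobson)
    {e : Matrix (Fin m) (Fin m) Ra} {f : Matrix (Fin n) (Fin n) Ra} (he : e * e = e) (hf : f * f = f)
    (h : Eqv (e.map φ) (f.map φ)) : Eqv e f := by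
  obtain ⟨a0, b0, hab0, hba0⟩ := h
  set E := e.map φ
  set F := f.map φ
  have hE : E * E = E := Groth.Agent.H22.Horrocks.map_idem' φ he
  have hF : F * F = F := Groth.Agent.H22.Horrocks.map_idem' φ hf
  set a := E * a0 * F with ha
  set b := F * b0 * E with hb
  have hcomm : E * a0 = a0 * F := by rw [← hab0, ← hba0, Matrix.mul_assoc]
  have hcomm' : F * b0 = b0 * E := by rw [← hab0, ← hba0, Matrix.mul_assoc]
  have hab : a * b = E := by
    rw [ha, hb, hcomm, hcomm', Matrix.mul_assoc a0 F F, hF, Matrix.mul_assoc b0 E E, hE, ← hcomm,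
      Matrix.mul_assoc, ← Matrix.mul_assoc a0, hab0, hE, hE]
  have hba : b * a = F := by
    rw [ha, hb, hcomm, hcomm', Matrix.mul_assoc a0 F F, hF, Matrix.mul_assoc b0 E E, hE, ← hcomm',
      Matrix.mul_assoc, ← Matrix.mul_assoc b0, hba0, hF, hF]
  obtain ⟨k1, hk1⟩ := exists_bnd (t := ι t) E
  obtain ⟨k2, hk2⟩ := exists_bnd (t := ι t) F
  obtain ⟨k3, hk3⟩ := exists_bnd (t := ι t) a
  obtain ⟨k4, hk4⟩ := exists_bnd (t := ι t) b
  set k := k1 + k2 + k3 + k4
  obtain ⟨a2, ha2⟩ := D.exists_approx (1 + k + k + k) a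
  obtain ⟨b2, hb2⟩ := D.exists_approx (1 + k + k + k) b
  set a1 := e * a2 * f
  set b1 := f * b2 * e
  have hea : E * a = a := by rw [ha, ← Matrix.mul_assoc, ← Matrix.mul_assoc, hE]
  have haF : a * F = a := by rw [ha, Matrix.mul_assoc, hF]
  have hFb : F * b = b := by rw [hb, ← Matrix.mul_assoc, ← Matrix.mul_assoc, hF]
  have hbE : b * E = b := by rw [hb, Matrix.mul_assoc, hE]
  have hda : Sm Rb (ι t) (1 + k) (a1.map φ - a) := by
    have : a1.map φ - a = E * (a2.map φ - a) * F := by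
      rw [Matrix.mul_sub, Matrix.sub_mul, hea, haF]
      simp only [a1, Matrix.map_mul, E, F]
    rw [this]
    exact (Sm.bnd_mul (hk1 k (by omega)) ha2).mul_bnd (hk2 k (by omega))
  have hdb : Sm Rb (ι t) (1 + k) (b1.map φ - b) := by
    have : b1.map φ - b = F * (b2.map φ - b) * E := by
      rw [Matrix.mul_sub, Matrix.sub_mul, hFb, hbE]
      simp only [b1, Matrix.map_mul, E, F]
    rw [this]
    exact (Sm.bnd_mul (hk2 k (by omega)) hb2).mul_bnd (hk1 k (by omega))
  have key : ∀ {p q : ℕ} (X : Matrix (Fin p) (Fin q) Rb) (Y : Matrix (Fin q) (Fin p) Rb)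
      (X' : Matrix (Fin p) (Fin q) Rb) (Y' : Matrix (Fin q) (Fin p) Rb),
      Bnd Rb (ι t) k X → Bnd Rb (ι t) k Y → Sm Rb (ι t) (1 + k) (X' - X) → Sm Rb (ι t) (1 + k) (Y' - Y) →
      Sm Rb (ι t) 1 (X' * Y' - X * Y) := by
    intro p q X Y X' Y' hX hY hX' hY'
    have : X' * Y' - X * Y = (X' - X) * (Y' - Y) + (X * (Y' - Y) + (X' - X) * Y) := by
      simp only [Matrix.mul_sub, Matrix.sub_mul]; abel
    rw [this]
    exact ((hX'.mul hY').mono (by omega)).add ((Sm.bnd_mul hX hY').add (hX'.mul_bnd hY))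
  refine eqv_of_near ht he hf (a := a1) (b := b1) (by rw [← Matrix.mul_assoc, ← Matrix.mul_assoc, he])
    (by rw [Matrix.mul_assoc, hf]) (by rw [← Matrix.mul_assoc, ← Matrix.mul_assoc, hf])
    (by rw [Matrix.mul_assoc, he]) (D.sm_of_map ?_) (D.sm_of_map ?_)
  · rw [Matrix.map_sub φ (map_sub φ), Matrix.map_mul, show e.map φ = E from rfl, ← hab]
    exact key a b _ _ (hk3 k (by omega)) (hk4 k (by omega)) hda hdb
  · rw [Matrix.map_sub φ (map_sub φ), Matrix.map_mul, show f.map φ = F from rfl, ← hba]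
    exact key b a _ _ (hk4 k (by omega)) (hk3 k (by omega)) hdb hda

/-- A split surjection of free modules over `Rb` is close to one over `Ra`. -/
theorem Dense.exists_split (D : Dense ι t φ) (ht : t ∈ (⊥ : Ideal A).jacobson)
    (ht' : ι t ∈ (⊥ : Ideal B).jacobson)
    (P : Matrix (Fin n) (Fin m) Rb) (S : Matrix (Fin m) (Fin n) Rb) (hPS : P * S = 1) :
    ∃ (P0 : Matrix (Fin n) (Fin m) Ra) (S0 : Matrix (Fin m) (Fin n) Ra), P0 * S0 = 1 ∧
      Eqv ((1 - S0 * P0).map φ) (1 - S * P) := by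
  obtain ⟨k1, hk1⟩ := exists_bnd (t := ι t) P
  obtain ⟨k2, hk2⟩ := exists_bnd (t := ι t) S
  obtain ⟨k3, hk3⟩ := exists_bnd (t := ι t) (1 - S * P)
  set k := k1 + k2 + k3
  set L := k + (k + 1 + (k + k))
  obtain ⟨P0, hP0⟩ := D.exists_approx (L + k) P
  obtain ⟨S1, hS1⟩ := D.exists_approx (L + k) S
  have h1 : Sm Ra t ((k + (k + (k + k))) + 1) (P0 * S1 - 1) := by
    refine D.sm_of_map ?_
    have : (P0 * S1 - 1).map φ = (P0.map φ - P) * (S1.map φ - S) + (P * (S1.map φ - S) + (P0.map φ - P) * S) := by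
      rw [Matrix.map_sub φ (map_sub φ), Matrix.map_mul, Matrix.map_one φ (map_zero φ) (map_one φ)]
      simp only [Matrix.mul_sub, Matrix.sub_mul, hPS]
      abel
    rw [this]
    exact (((hP0.mul hS1).mono (by omega)).add
      (((Sm.bnd_mul (hk1 k (by omega)) hS1).add (hP0.mul_bnd (hk2 k (by omega)))).mono (by omega)))
  obtain ⟨W, hW, -, hW1⟩ := Sm.exists_inv ht h1
  refine ⟨P0, S1 * W, ?_, ?_⟩
  · rw [← Matrix.mul_assoc]
    simpa using hW
  have hS0 : Sm Rb (ι t) (1 + k + k + k) ((S1 * W).map φ - S) := by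
    have : (S1 * W).map φ - S = (S1.map φ - S) + ((S1.map φ - S) * ((W - 1).map φ) + S * (W - 1).map φ) := by
      rw [Matrix.map_sub φ (map_sub φ), Matrix.map_one φ (map_zero φ) (map_one φ), Matrix.map_mul]
      simp only [Matrix.mul_sub, Matrix.sub_mul, Matrix.mul_one]
      abel
    rw [this]
    have hW2 : Sm Rb (ι t) ((1 + k + k + k) + k) ((W - 1).map φ) := D.sm_map (hW1.mono (by omega))
    exact (hS1.mono (by omega)).add (((hS1.mul hW2).mono (by omega)).add (Sm.bnd_mul (hk2 k (by omega)) hW2))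
  have hidem : (1 - S1 * W * P0).map φ * (1 - S1 * W * P0).map φ = (1 - S1 * W * P0).map φ := by
    refine Groth.Agent.H22.Horrocks.map_idem' φ ?_
    have hone : P0 * (S1 * W) = 1 := by
      rw [← Matrix.mul_assoc]; simpa using hW
    have h2 : S1 * W * P0 * (S1 * W * P0) = S1 * W * P0 := by
      rw [Matrix.mul_assoc (S1 * W) P0, ← Matrix.mul_assoc P0, hone, Matrix.one_mul]
    simp only [Matrix.sub_mul, Matrix.mul_sub, Matrix.one_mul, Matrix.mul_one, h2]
    abel
  have hidem' : (1 - S * P) * (1 - S * P) = 1 - S * P := by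
    have h2 : S * P * (S * P) = S * P := by rw [Matrix.mul_assoc S P, ← Matrix.mul_assoc P, hPS, Matrix.one_mul]
    simp only [Matrix.sub_mul, Matrix.mul_sub, Matrix.one_mul, Matrix.mul_one, h2]
    abel
  have hclose : Sm Rb (ι t) (1 + k + k) ((1 - S1 * W * P0).map φ - (1 - S * P)) := by
    have : (1 - S1 * W * P0).map φ - (1 - S * P) =
        -(((S1 * W).map φ - S) * (P0.map φ - P) + (((S1 * W).map φ - S) * P + S * (P0.map φ - P))) := by
      rw [Matrix.map_sub φ (map_sub φ), Matrix.map_one φ (map_zero φ) (map_one φ), Matrix.map_mul]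
      simp only [Matrix.mul_sub, Matrix.sub_mul]
      abel
    rw [this]
    refine Sm.neg (((hS0.mul hP0).mono (by omega)).add ((hS0.mul_bnd (hk1 k (by omega))).add ?_))
    exact (Sm.bnd_mul (hk2 k (by omega)) (hP0.mono (M := (1 + k + k) + k) (by omega)))
  have hb : Bnd Rb (ι t) k ((1 - S1 * W * P0).map φ) :=
    (hk3 k (by omega)).of_sm (hclose.mono (Nat.zero_le _))
  exact eqv_of_close ht' hidem hidem' hb (hk3 k (by omega)) hclose

/-- Idempotents lift when `A` is Henselian at `t`. -/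
theorem Dense.exists_idem (D : Dense ι t φ) [HenselianRing A (Ideal.span {t})]
    (hB : ι t ∈ (⊥ : Ideal B).jacobson)
    (hens : ∀ (C : Type u) [CommRing C] [Algebra A C] [Algebra.IsIntegral A C],
      HenselianRing C ((Ideal.span {t}).map (algebraMap A C)))
    {f : Matrix (Fin n) (Fin n) Rb} (hf : f * f = f) :
    ∃ e : Matrix (Fin n) (Fin n) Ra, e * e = e ∧ Eqv (e.map φ) f := by
  have ht : t ∈ (⊥ : Ideal A).jacobson :=
    HenselianRing.jac (R := A) (I := Ideal.span {t}) (Ideal.mem_span_singleton_self t)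
  obtain ⟨k0, hk⟩ := exists_bnd (t := ι t) f
  obtain ⟨e0, he0⟩ := D.exists_approx ((1 + k0 + k0 + k0) + k0) f
  have hδ : Sm Ra t (1 + k0 + k0 + k0) (e0 * e0 - e0) := by
    refine D.sm_of_map ?_
    have : (e0 * e0 - e0).map φ = (e0.map φ - f) * (e0.map φ - f) + (f * (e0.map φ - f) + (e0.map φ - f) * f)
        - (e0.map φ - f) := by
      rw [Matrix.map_sub φ (map_sub φ), Matrix.map_mul]
      simp only [Matrix.mul_sub, Matrix.sub_mul, hf]
      abel
    rw [this]
    exact (((he0.mul he0).mono (by omega)).add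
      ((Sm.bnd_mul (hk k0 le_rfl) he0).add (he0.mul_bnd (hk k0 le_rfl)))).sub (he0.mono (by omega))
  obtain ⟨Dm, hDm⟩ := hδ.exists_eq
  set N := 1 + k0 + k0 + k0
  let C : Subalgebra A (Matrix (Fin n) (Fin n) A) := Algebra.adjoin A {Dm}
  letI : CommRing C := { C.toRing with mul_comm := fun a b => Subtype.ext (by
    have : IsMulCommutative C := Algebra.isMulCommutative_adjoin_singleton A Dm
    exact congrArg Subtype.val (this.is_comm.comm a b)) }
  haveI : Algebra.IsIntegral A C :=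
    ⟨fun x => (isIntegral_algHom_iff C.val Subtype.val_injective).1 (Matrix.isIntegral (x : Matrix (Fin n) (Fin n) A))⟩
  haveI := hens C
  set I := (Ideal.span {t}).map (algebraMap A C)
  have htI : algebraMap A C t ∈ I := Ideal.mem_map_of_mem _ (Ideal.mem_span_singleton_self t)
  let d : C := ⟨Dm, Algebra.self_mem_adjoin_singleton A Dm⟩
  have hunit : ∀ x ∈ I, IsUnit (1 + x : C) := fun x hx => by
    simpa [add_comm] using Ideal.mem_jacobson_bot.1 (HenselianRing.jac (R := C) (I := I) hx) 1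
  have hdI : algebraMap A C (t ^ N) * d ∈ I := by
    refine Ideal.mul_mem_right _ _ ?_
    rw [map_pow]
    exact Ideal.pow_mem_of_mem _ htI N (by omega)
  obtain ⟨v, hv⟩ := hunit (4 * (algebraMap A C (t ^ N) * d)) (Ideal.mul_mem_left _ _ hdI)
  set γ : C := algebraMap A C (t ^ N) * d * ↑v⁻¹
  have hγI : γ ∈ I := Ideal.mul_mem_right _ _ hdI
  obtain ⟨c, hc, hc0⟩ := HenselianRing.is_henselian (R := C) (I := I)
    (Polynomial.X ^ 2 - Polynomial.X + Polynomial.C γ)
    (by monicity!) 0 (by simpa using hγI) (by simp only [Polynomial.derivative_add, Polynomial.derivative_sub, Polynomial.derivative_C, Polynomial.derivative_X, Polynomial.derivative_X_pow, Polynomial.eval_add, Polynomial.eval_sub, Polynomial.eval_mul, Polynomial.eval_pow, Polynomial.eval_C, Polynomial.eval_X, Polynomial.eval_zero, Polynomial.eval_one]; norm_num; exact (isUnit_one (M := C ⧸ I)).neg)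
  rw [sub_zero] at hc0
  have hc' : c * c - c + γ = 0 := by
    simpa [Polynomial.IsRoot, pow_two] using hc
  obtain ⟨w, hw⟩ := hunit (-c) (I.neg_mem hc0)
  obtain ⟨c1, hc1⟩ : ∃ c1 : C, c = algebraMap A C (t ^ N) * c1 := by
    refine ⟨d * ↑v⁻¹ * ↑w⁻¹, ?_⟩
    have : c * (w : C) = γ := by rw [hw]; linear_combination -hc'
    calc c = c * w * ↑w⁻¹ := by rw [mul_assoc, Units.mul_inv, mul_one]
      _ = _ := by rw [this]; simp only [γ, mul_assoc]
  let π : Matrix (Fin n) (Fin n) A →ₐ[A] Matrix (Fin n) (Fin n) Ra := (Algebra.ofId A Ra).mapMatrix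
  have hπd : π Dm * algebraMap A (Matrix (Fin n) (Fin n) Ra) (t ^ N) = e0 * e0 - e0 := by
    rw [hDm, ← Algebra.commutes, ← Algebra.smul_def, ← map_smul]
    rfl
  have hcen : ∀ x : C, Commute e0 (π (x : Matrix (Fin n) (Fin n) A)) := by
    have hD : Commute e0 (π Dm) := by
      have hu : IsUnit (algebraMap A (Matrix (Fin n) (Fin n) Ra) (t ^ N)) := by
        rw [IsScalarTower.algebraMap_apply A Ra]
        exact (IsLocalization.map_units Ra (⟨_, N, rfl⟩ : Submonoid.powers t)).map _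
      refine hu.mul_right_cancel ?_
      rw [mul_assoc, hπd, mul_assoc, ← Algebra.commutes, ← mul_assoc, hπd]
      simp only [Matrix.mul_sub, Matrix.sub_mul, Matrix.mul_assoc]
    intro x
    obtain ⟨x, hx⟩ := x
    induction hx using Algebra.adjoin_induction with
    | mem y hy => rw [Set.mem_singleton_iff] at hy; subst hy; exact hD
    | algebraMap r => simp only [AlgHom.commutes]; exact Algebra.commute_algebraMap_right r e0
    | add y z _ _ hy hz => simp only [map_add]; exact hy.add_right hz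
    | mul y z _ _ hy hz => simp only [map_mul]; exact hy.mul_right hz
  let Pmap : C →ₐ[A] Matrix (Fin n) (Fin n) Ra := π.comp C.val
  set c' := Pmap c
  have hcom : e0 * c' = c' * e0 := hcen c
  have heq : (1 + 4 * (e0 * e0 - e0)) * (c' * c' - c') + (e0 * e0 - e0) = 0 := by
    have h : (1 + 4 * (algebraMap A C (t ^ N) * d)) * (c * c - c) + algebraMap A C (t ^ N) * d = 0 := by
      rw [← hv]
      have : γ * (v : C) = algebraMap A C (t ^ N) * d := by simp [γ, mul_assoc]
      linear_combination (v : C) * hc' - this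
    have h' := congrArg Pmap h
    simp only [map_add, map_mul, map_one, map_ofNat, map_sub, map_zero, AlgHom.commutes] at h'
    rw [show algebraMap A (Matrix (Fin n) (Fin n) Ra) (t ^ N) * Pmap d = e0 * e0 - e0 from by
      rw [Algebra.commutes]; exact hπd] at h'
    exact h'
  set e := e0 + (1 - 2 * e0) * c' with he
  have hee : e * e = e := by
    have hexp : e * e - e = (1 + 4 * (e0 * e0 - e0)) * (c' * c' - c') + (e0 * e0 - e0) := by
      have h1 : c' * e0 = e0 * c' := hcom.symm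
      have h2 : ∀ X : Matrix (Fin n) (Fin n) Ra, c' * (e0 * X) = e0 * (c' * X) := fun X => by
        rw [← mul_assoc, h1, mul_assoc]
      simp only [he, two_mul, (by norm_num : (4 : Matrix (Fin n) (Fin n) Ra) = 1 + 1 + 1 + 1), mul_add, add_mul,
        mul_sub, sub_mul, one_mul, mul_one, mul_assoc, h1, h2]
      abel
    rw [heq, sub_eq_zero] at hexp
    exact hexp
  refine ⟨e, hee, ?_⟩
  have hcSm : Sm Ra t N c' := by
    rw [show c' = π ((c : C) : Matrix (Fin n) (Fin n) A) from rfl, hc1, MulMemClass.coe_mul,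
      Subalgebra.coe_algebraMap, ← Algebra.smul_def]
    exact Sm.map_of _
  have hclose : Sm Rb (ι t) (1 + k0 + k0) (e.map φ - f) := by
    have : e.map φ - f = (e0.map φ - f) +
        (c'.map φ - (((e0.map φ - f) * c'.map φ + f * c'.map φ) + ((e0.map φ - f) * c'.map φ + f * c'.map φ))) := by
      rw [he, two_mul, Matrix.map_add φ (map_add φ), Matrix.map_mul, Matrix.map_sub φ (map_sub φ),
        Matrix.map_one φ (map_zero φ) (map_one φ), Matrix.map_add φ (map_add φ)]
      simp only [Matrix.sub_mul, Matrix.add_mul, Matrix.one_mul]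
      abel
    rw [this]
    have hc2 : Sm Rb (ι t) ((1 + k0 + k0) + k0) (c'.map φ) := (D.sm_map hcSm).mono (by omega)
    have h3 := ((he0.mul hc2).mono (by omega : 1 + k0 + k0 ≤ _)).add (Sm.bnd_mul (hk k0 le_rfl) hc2)
    exact (he0.mono (by omega)).add ((hc2.mono (by omega)).sub (h3.add h3))
  exact eqv_of_close hB (Groth.Agent.H22.Horrocks.map_idem' φ hee) hf
    ((hk k0 le_rfl).of_sm (hclose.mono (Nat.zero_le _))) (hk k0 le_rfl) hclose

end Groth.Agent.H22.AwayGlue
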