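import Groth.Agent.H22.Horrocks.Tools
import Mathlib

/-!
Matrices over `S[1/t]` whose entries are close to zero in the `t`-adic sense.
-/

set_option autoImplicit false
set_option maxHeartbeats 1000000
universe u

namespace Groth.Agent.H22.AwayGlue

open Groth.Agent.H22.Horrocks (Eqv)

variable {S R : Type u} [CommRing S] [CommRing R] [Algebra S R] (t : S) {m n o : ℕ}

variable (R) in
/-- The entries of `X` lie in the image of `t ^ N · S`. -/
def Sm (N : ℕ) (X : Matrix (Fin m) (Fin n) R) : Prop :=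
  ∀ i j, ∃ a : S, X i j = algebraMap S R (t ^ N * a)

variable {t}

theorem Sm.zero (N : ℕ) : Sm R t N (0 : Matrix (Fin m) (Fin n) R) := fun i j => ⟨0, by simp⟩

theorem Sm.add {N : ℕ} {X Y : Matrix (Fin m) (Fin n) R} (hX : Sm R t N X) (hY : Sm R t N Y) :
    Sm R t N (X + Y) := fun i j => by
  obtain ⟨a, ha⟩ := hX i j
  obtain ⟨b, hb⟩ := hY i j
  exact ⟨a + b, by rw [Matrix.add_apply, ha, hb, mul_add, map_add]⟩

theorem Sm.neg {N : ℕ} {X : Matrix (Fin m) (Fin n) R} (hX : Sm R t N X) : Sm R t N (-X) := fun i j => by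
  obtain ⟨a, ha⟩ := hX i j
  exact ⟨-a, by rw [Matrix.neg_apply, ha, mul_neg, map_neg]⟩

theorem Sm.sub {N : ℕ} {X Y : Matrix (Fin m) (Fin n) R} (hX : Sm R t N X) (hY : Sm R t N Y) :
    Sm R t N (X - Y) := by
  rw [sub_eq_add_neg]; exact hX.add hY.neg

theorem Sm.mono {M N : ℕ} (h : M ≤ N) {X : Matrix (Fin m) (Fin n) R} (hX : Sm R t N X) : Sm R t M X :=
  fun i j => by
    obtain ⟨a, ha⟩ := hX i j
    exact ⟨t ^ (N - M) * a, by rw [ha, ← mul_assoc, ← pow_add, Nat.add_sub_cancel' h]⟩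

theorem sm_sum {N : ℕ} {ι : Type*} (s : Finset ι) (f : ι → R)
    (h : ∀ x ∈ s, ∃ a : S, f x = algebraMap S R (t ^ N * a)) :
    ∃ a : S, ∑ x ∈ s, f x = algebraMap S R (t ^ N * a) := by
  choose! a ha using h
  exact ⟨∑ x ∈ s, a x, by rw [Finset.mul_sum, map_sum]; exact Finset.sum_congr rfl ha⟩

theorem Sm.mul {M N : ℕ} {X : Matrix (Fin m) (Fin n) R} {Y : Matrix (Fin n) (Fin o) R}
    (hX : Sm R t M X) (hY : Sm R t N Y) : Sm R t (M + N) (X * Y) := fun i j => by
  rw [Matrix.mul_apply]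
  refine sm_sum _ _ fun x _ => ?_
  obtain ⟨a, ha⟩ := hX i x
  obtain ⟨b, hb⟩ := hY x j
  exact ⟨a * b, by rw [ha, hb, ← map_mul, pow_add]; ring_nf⟩

theorem Sm.map_of {N : ℕ} (a : Matrix (Fin m) (Fin n) S) : Sm R t N ((t ^ N • a).map (algebraMap S R)) :=
  fun i j => ⟨a i j, rfl⟩

theorem Sm.exists_eq {N : ℕ} {X : Matrix (Fin m) (Fin n) R} (hX : Sm R t N X) :
    ∃ a : Matrix (Fin m) (Fin n) S, X = (t ^ N • a).map (algebraMap S R) := by
  choose a ha using hX
  exact ⟨Matrix.of a, Matrix.ext ha⟩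

variable (R t) in
/-- `t ^ k • X` has entries in `S`. -/
def Bnd (k : ℕ) (X : Matrix (Fin m) (Fin n) R) : Prop := Sm R t 0 (algebraMap S R (t ^ k) • X)

theorem Bnd.mono {k l : ℕ} (h : k ≤ l) {X : Matrix (Fin m) (Fin n) R} (hX : Bnd R t k X) : Bnd R t l X :=
  fun i j => by
    obtain ⟨a, ha⟩ := hX i j
    refine ⟨t ^ (l - k) * a, ?_⟩
    simp only [Matrix.smul_apply, smul_eq_mul, pow_zero, one_mul] at ha ⊢
    rw [map_mul, ← ha, ← mul_assoc, ← map_mul, ← pow_add, Nat.sub_add_cancel h]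

theorem Bnd.of_sm {k : ℕ} {X Y : Matrix (Fin m) (Fin n) R} (hX : Bnd R t k X) (h : Sm R t 0 (Y - X)) :
    Bnd R t k Y := fun i j => by
  obtain ⟨a, ha⟩ := hX i j
  obtain ⟨b, hb⟩ := h i j
  refine ⟨a + t ^ k * b, ?_⟩
  simp only [Matrix.smul_apply, smul_eq_mul, Matrix.sub_apply, pow_zero, one_mul] at ha hb ⊢
  rw [map_add, map_mul, ← ha, ← hb]
  ring

variable [IsLocalization.Away t R]

theorem exists_bnd (X : Matrix (Fin m) (Fin n) R) : ∃ k, ∀ l, k ≤ l → Bnd R t l X := by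
  obtain ⟨⟨x, k, rfl⟩, a, ha⟩ := Groth.Agent.H22.Horrocks.exists_map_eq_smul (Submonoid.powers t) R X
  exact ⟨k, fun l hl => Bnd.mono hl fun i j => ⟨a i j, by rw [pow_zero, one_mul, ← ha]; rfl⟩⟩

theorem Sm.mul_bnd {k N : ℕ} {X : Matrix (Fin m) (Fin n) R} {Y : Matrix (Fin n) (Fin o) R}
    (hX : Sm R t (N + k) X) (hY : Bnd R t k Y) : Sm R t N (X * Y) := by
  obtain ⟨a, rfl⟩ := hX.exists_eq
  have h : ((t ^ (N + k)) • a).map (algebraMap S R) * Y =
      ((t ^ N) • a).map (algebraMap S R) * (algebraMap S R (t ^ k) • Y) := by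
    rw [Matrix.mul_smul, ← Matrix.smul_mul, pow_add, mul_comm, mul_smul,
      Groth.Agent.H22.Horrocks.smul_map']
  rw [h]
  exact (Sm.map_of a).mul hY

theorem Sm.bnd_mul {k N : ℕ} {X : Matrix (Fin m) (Fin n) R} {Y : Matrix (Fin n) (Fin o) R}
    (hX : Bnd R t k X) (hY : Sm R t (N + k) Y) : Sm R t N (X * Y) := by
  obtain ⟨a, rfl⟩ := hY.exists_eq
  have h : X * ((t ^ (N + k)) • a).map (algebraMap S R) =
      (algebraMap S R (t ^ k) • X) * ((t ^ N) • a).map (algebraMap S R) := by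
    rw [Matrix.smul_mul, ← Matrix.mul_smul, pow_add, mul_comm, mul_smul,
      Groth.Agent.H22.Horrocks.smul_map']
  rw [h]
  exact (hX.mul (Sm.map_of a)).mono (by omega)

variable (ht : t ∈ (⊥ : Ideal S).jacobson)
include ht

omit [IsLocalization.Away t R] in
theorem Sm.exists_inv {N : ℕ} {X : Matrix (Fin n) (Fin n) R} (hX : Sm R t (N + 1) X) :
    ∃ Y : Matrix (Fin n) (Fin n) R, (1 + X) * Y = 1 ∧ Y * (1 + X) = 1 ∧ Sm R t (N + 1) (Y - 1) := by
  obtain ⟨a, rfl⟩ := hX.exists_eq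
  set W : Matrix (Fin n) (Fin n) S := 1 + t ^ (N + 1) • a
  have hdet : IsUnit W.det := by
    have h : Ideal.Quotient.mk (⊥ : Ideal S).jacobson W.det = 1 := by
      rw [RingHom.map_det, RingHom.mapMatrix_apply]
      convert Matrix.det_one (n := Fin n) (R := S ⧸ (⊥ : Ideal S).jacobson)
      ext i j
      have h0 : Ideal.Quotient.mk (⊥ : Ideal S).jacobson t = 0 := Ideal.Quotient.eq_zero_iff_mem.2 ht
      simp only [W, Matrix.map_apply, Matrix.add_apply, Matrix.smul_apply, smul_eq_mul, map_add, map_mul,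
        map_pow, h0, zero_pow (Nat.succ_ne_zero N), zero_mul, add_zero, Matrix.one_apply]
      split_ifs <;> simp
    have := Ideal.mem_jacobson_bot.1
      ((Ideal.Quotient.eq).1 (h.trans (map_one _).symm)) 1
    simpa using this
  have e1 : (W⁻¹).map (algebraMap S R) - 1 = (t ^ (N + 1) • (-(W⁻¹ * a))).map (algebraMap S R) := by
    have : W⁻¹ - 1 = t ^ (N + 1) • (-(W⁻¹ * a)) := by
      rw [smul_neg, ← Matrix.mul_smul]
      have h := Matrix.nonsing_inv_mul W hdet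
      simp only [W, Matrix.mul_add, Matrix.mul_one] at h ⊢
      linear_combination (norm := module) h
    rw [← this, Matrix.map_sub _ (map_sub _), Matrix.map_one _ (map_zero _) (map_one _)]
  refine ⟨(W⁻¹).map (algebraMap S R), ?_, ?_, e1 ▸ Sm.map_of _⟩
  · rw [← Matrix.map_one (algebraMap S R) (map_zero _) (map_one _), ← Matrix.map_add _ (map_add _),
      ← Matrix.map_mul, Matrix.mul_nonsing_inv W hdet]
  · rw [← Matrix.map_one (algebraMap S R) (map_zero _) (map_one _), ← Matrix.map_add _ (map_add _),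
      ← Matrix.map_mul, Matrix.nonsing_inv_mul W hdet]

omit [IsLocalization.Away t R] in
theorem eqv_of_near {e : Matrix (Fin m) (Fin m) R} {f : Matrix (Fin n) (Fin n) R}
    (he : e * e = e) (hf : f * f = f) {a : Matrix (Fin m) (Fin n) R} {b : Matrix (Fin n) (Fin m) R}
    (hea : e * a = a) (haf : a * f = a) (hfb : f * b = b) (hbe : b * e = b)
    (hab : Sm R t 1 (a * b - e)) (hba : Sm R t 1 (b * a - f)) : Eqv e f := by
  obtain ⟨v, hv, -, -⟩ := Sm.exists_inv ht (N := 0) hab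
  obtain ⟨w, -, hw, -⟩ := Sm.exists_inv ht (N := 0) hba
  have h1 : e * (1 + (a * b - e)) = a * b := by
    rw [Matrix.mul_add, Matrix.mul_one, Matrix.mul_sub, ← Matrix.mul_assoc, hea, he, add_sub_cancel]
  have h2 : (1 + (b * a - f)) * f = b * a := by
    rw [Matrix.add_mul, Matrix.one_mul, Matrix.sub_mul, Matrix.mul_assoc, haf, hf, add_sub_cancel]
  have hr : a * (b * v) = e := by rw [← Matrix.mul_assoc, ← h1, Matrix.mul_assoc, hv, Matrix.mul_one]
  have hl : (w * b) * a = f := by rw [Matrix.mul_assoc, ← h2, ← Matrix.mul_assoc, hw, Matrix.one_mul]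
  refine ⟨a, w * b, ?_, hl⟩
  have h3 : w * b = f * (b * v) := by
    rw [← hl, Matrix.mul_assoc (w * b), hr, Matrix.mul_assoc, hbe]
  rw [h3, ← Matrix.mul_assoc, haf, hr]

theorem eqv_of_close {e f : Matrix (Fin n) (Fin n) R} (he : e * e = e) (hf : f * f = f) {k : ℕ}
    (hk : Bnd R t k e) (hk' : Bnd R t k f) (h : Sm R t (1 + k + k) (e - f)) : Eqv e f := by
  refine eqv_of_near ht he hf (a := e * f) (b := f * e) (by rw [← Matrix.mul_assoc, he])
    (by rw [Matrix.mul_assoc, hf]) (by rw [← Matrix.mul_assoc, hf]) (by rw [Matrix.mul_assoc, he]) ?_ ?_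
  · have : e * f * (f * e) - e = e * (-(e - f)) * e := by
      rw [Matrix.mul_assoc e f, ← Matrix.mul_assoc f f, hf]
      simp only [neg_sub, Matrix.mul_sub, Matrix.sub_mul, he, Matrix.mul_assoc]
    rw [this]
    exact (Sm.bnd_mul hk h.neg).mul_bnd hk
  · have : f * e * (e * f) - f = f * (e - f) * f := by
      rw [Matrix.mul_assoc f e, ← Matrix.mul_assoc e e, he]
      simp only [Matrix.mul_sub, Matrix.sub_mul, hf, Matrix.mul_assoc]
    rw [this]
    exact (Sm.bnd_mul hk' h).mul_bnd hk'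

end Groth.Agent.H22.AwayGlue
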